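import Cfsg.Agent.H861.IF.MonA
import Cfsg.Agent.H861.Gen.Mon
import Cfsg.Agent.H642.IF.LamTwo
import Cfsg.Agent.H999.IF.EngB
import Cfsg.Agent.H209.IF.Kill
import Cfsg.Agent.H835.Mon.Two
import Cfsg.Agent.S5534

/-!
# S5719: the Monster (helper861)

* `A` contains an involution `t` of the class `2A`: the subgroup `C_A(t)` of `C(t) = 2.B` has index at most 9944, so
  `A = C(t)`; the same holds for `u ≠ t` of the class `2A` with `tu = ut`: contradiction.
* `A` contains `z` of the class `2B`: `C_A(z)` has index at most 356912 in `C(z)`, and `A ∩ Q` contains an element of type 2.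
-/

set_option autoImplicit false
set_option maxRecDepth 100000

namespace Cfsg.Agent.H861.IFM

open Subgroup Cfsg
open Cfsg.Agent.H940.Eng (Base)
open Cfsg.Agent.H209.Fxy
open Cfsg.Agent.BpSpor.MBigModel (MG zz pi chart)
open Cfsg.Agent.MonsterU Cfsg.Agent.MonsterU.Lam2
open Cfsg.Agent.LThreeB.Row (TA)
open Cfsg.Agent.MonsterX Cfsg.Agent.LThreeMB

/-- an involution with the nonsplit double cover of `B` as centralizer -/
theorem exists_x : ∃ x : MG, orderOf x = 2 ∧ TA x ∧
    IsNonsplitDoubleCover (centralizer ({x} : Set MG)) Spor.BabyMonster := by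
  have hfin := BpSpor.MBigModel.finite
  obtain ⟨f⟩ := MonsterP.Equiv.equiv
  obtain ⟨x, hx, hc⟩ := MonsterU.Transfer.exists_cover f.symm S5534.result
  refine ⟨x, hx, ?_, hc⟩
  rcases BpSpor.MBigModel.cls hx with ⟨g, hg⟩ | h
  · exfalso
    have h1 := BpSpor.card_cent_of_conj hg
    rw [BpSpor.MBigModel.card_cent_z] at h1
    have h2 := Subgroup.card_eq_card_quotient_mul_card_subgroup (center ↥(centralizer ({x} : Set MG)))
    obtain ⟨h3, ⟨e⟩, -⟩ := hc
    rw [h3, Nat.card_congr e.toEquiv, H256.Sep.RowB.card] at h2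
    rw [h1] at h2
    exact absurd h2 (by decide +kernel)
  · exact h

theorem hna : ∃ a b : MG, a * b ≠ b * a := by
  by_contra hcon
  push Not at hcon
  have hsim := BpSpor.MBigModel.simple
  have h1 : center MG = ⊤ := by
    rw [Subgroup.eq_top_iff']
    intro x
    rw [Subgroup.mem_center_iff]
    intro g
    exact hcon g x
  rw [BpSpor.MBigModel.center_model] at h1
  exact bot_ne_top h1

theorem index_t {x : MG} (hT : TA x) : (centralizer ({x} : Set MG)).index = 97239461142009186000 := by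
  have hfin := BpSpor.MBigModel.finite
  have h1 := card_mul_index (centralizer ({x} : Set MG))
  rw [BpSpor.MBigModel.card_cent_t hT, BpSpor.MBigModel.card_M] at h1
  omega

theorem index_z : (centralizer ({zz} : Set MG)).index = 5791748068511982636944259375 := by
  have hfin := BpSpor.MBigModel.finite
  have h1 := card_mul_index (centralizer ({zz} : Set MG))
  rw [BpSpor.MBigModel.card_cent_z, BpSpor.MBigModel.card_M] at h1
  omega

/-- `C(x) ≤ A`, so `A = C(x)` -/
theorem eq_cent (B : Base) {x : MG} (hx : orderOf x = 2) (hT : TA x)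
    (hc : IsNonsplitDoubleCover (centralizer ({x} : Set MG)) Spor.BabyMonster) {A : Subgroup MG}
    {Γ : Subgroup (MulAut MG)} (h : IF A Γ) (hxA : x ∈ A) : A = centralizer ({x} : Set MG) := by
  have hfin := BpSpor.MBigModel.finite
  have hsim := BpSpor.MBigModel.simple
  obtain ⟨h2, ⟨e⟩, hns⟩ := hc
  have hxC : x ∈ centralizer ({x} : Set MG) := mem_centralizer_singleton_iff.2 rfl
  have hcen : zpowers (⟨x, hxC⟩ : centralizer ({x} : Set MG)) = center ↥(centralizer ({x} : Set MG)) := by
    refine Subgroup.eq_of_le_of_card_ge (Subgroup.zpowers_le.2 ?_) ?_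
    · rw [Subgroup.mem_center_iff]
      intro y
      exact Subtype.ext (mem_centralizer_singleton_iff.1 y.2)
    · rw [h2, Nat.card_zpowers, Subgroup.orderOf_mk, hx]
  have h3 := (H999.IFB.IF.E2' h hna hxA hx).2.2.2.2 (centralizer ({x} : Set MG)) le_rfl
  rw [index_t hT] at h3
  have h4 : (A.subgroupOf (centralizer ({x} : Set MG))).index ≤ 9944 := by
    by_contra hcon
    push Not at hcon
    have h5 : 9945 ^ 5 ≤ A.relIndex (centralizer ({x} : Set MG)) ^ 5 := Nat.pow_le_pow_left hcon 5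
    have h6 := lt_of_le_of_lt h5 h3.1
    norm_num at h6
  have h5 := cover_top B e h4 (by
    rw [← hcen, zpowers_le, mem_subgroupOf]
    exact hxA)
  have h6 : centralizer ({x} : Set MG) ≤ A := by
    intro y hy
    have : (⟨y, hy⟩ : centralizer ({x} : Set MG)) ∈ A.subgroupOf (centralizer ({x} : Set MG)) := by rw [h5]; trivial
    exact this
  have hB : IsSimpleGroup Spor.BabyMonster := H256.Sep.RowB.simple
  have h7 := (Gen.Mon.dat B).coatom_t hx hB ⟨h2, ⟨e⟩, hns⟩ (BpSpor.MBigModel.card_cent_t hT)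
  rcases h7.le_iff.1 h6 with h8 | h8
  · exact absurd h8 h.ne_top
  · exact h8

theorem mem_conj {A : Subgroup MG} (g y : MG) :
    y ∈ A.map (MulAut.conj g).toMonoidHom ↔ g⁻¹ * y * g ∈ A := by
  rw [Subgroup.mem_map_equiv, MulAut.conj_symm_apply]

/-- **no involution of the class `2A`** -/
theorem kill_ta (B : Base) {A : Subgroup MG} {Γ : Subgroup (MulAut MG)} (h : IF A Γ) {t : MG} (htA : t ∈ A)
    (hT : TA t) : False := by
  classical
  have hfin := BpSpor.MBigModel.finite
  have hsim := BpSpor.MBigModel.simple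
  obtain ⟨x, hx, hTx, hc⟩ := exists_x
  -- another involution of the class commuting with `x`
  obtain ⟨u, hTu, hux, hne⟩ : ∃ u : MG, TA u ∧ u * x = x * u ∧ u ≠ x := by
    obtain ⟨v, -, hv, -, -, -, -⟩ := Gen.MonCh.exists_pair (n := 2) (Or.inl rfl)
    obtain ⟨q, ⟨p, rfl⟩, hq⟩ := chart.eta_surj v
    have h1 : TA (KDone.K.ι p) := BpSpor.MBigModel.ta_iota (by
      rw [← KChart.eta_ι KDone.lft p, hq]; exact hv)
    obtain ⟨p', hp'⟩ : KDone.K.ι p * zz ∈ KDone.K.ι.range :=
      Subgroup.mul_mem _ ⟨p, rfl⟩ chart.large.z_mem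
    have h2 : TA (KDone.K.ι p') := BpSpor.MBigModel.ta_iota (by
      rw [← KChart.eta_ι KDone.lft p', hp', chart.eta_mul _ ⟨p, rfl⟩ _ chart.large.z_mem, chart.eta_z, add_zero, hq]
      exact hv)
    rw [hp'] at h2
    have h3 : IsConj (KDone.K.ι p) x := IsConj.trans (IsConj.symm (show IsConj _ _ from h1)) (show IsConj _ _ from hTx)
    obtain ⟨k, hk⟩ := isConj_iff.1 h3
    have hz : zz * KDone.K.ι p = KDone.K.ι p * zz := (chart.large.comm_z _ ⟨p, rfl⟩).symm
    refine ⟨k * (KDone.K.ι p * zz) * k⁻¹, ?_, ?_, ?_⟩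
    · exact IsConj.trans (show IsConj _ _ from h2) (isConj_iff.2 ⟨k, rfl⟩)
    · rw [← hk]
      calc k * (KDone.K.ι p * zz) * k⁻¹ * (k * KDone.K.ι p * k⁻¹) = k * (KDone.K.ι p * (zz * KDone.K.ι p)) * k⁻¹ := by group
        _ = k * (KDone.K.ι p * (KDone.K.ι p * zz)) * k⁻¹ := by rw [hz]
        _ = _ := by group
    · intro h4
      rw [← hk] at h4
      have h5 := mul_left_cancel (mul_right_cancel h4)
      exact chart.large.z_ne (mul_eq_left.1 h5)
  obtain ⟨g, hg⟩ := isConj_iff.1 (IsConj.trans (IsConj.symm (show IsConj _ _ from hT)) (show IsConj _ _ from hTx))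
  obtain ⟨m, hm⟩ := isConj_iff.1 (IsConj.trans (IsConj.symm (show IsConj _ _ from hTu)) (show IsConj _ _ from hTx))
  have e1 := eq_cent B hx hTx hc (h.map (MulAut.conj g)) (by
    have : g⁻¹ * x * g = t := by rw [← hg]; group
    rw [mem_conj, this]; exact htA)
  have hA1 := h.map (MulAut.conj g)
  rw [e1] at hA1
  have e2 := eq_cent B hx hTx hc (hA1.map (MulAut.conj m)) (by
    have : m⁻¹ * x * m = u := by rw [← hm]; group
    rw [mem_conj, this]; exact mem_centralizer_singleton_iff.2 hux)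
  -- `C(u) = C(x)`
  have hcu : ∀ y : MG, y * x = x * y → y * u = u * y := by
    intro y hy
    have h1 : m * y * m⁻¹ ∈ (centralizer ({x} : Set MG)).map (MulAut.conj m).toMonoidHom := by
      rw [mem_conj]
      have : m⁻¹ * (m * y * m⁻¹) * m = y := by group
      rw [this]; exact mem_centralizer_singleton_iff.2 hy
    rw [e2] at h1
    have h2 := mem_centralizer_singleton_iff.1 h1
    rw [← hm] at h2
    have h3 : m * (y * u) * m⁻¹ = m * (u * y) * m⁻¹ := by
      calc m * (y * u) * m⁻¹ = m * y * m⁻¹ * (m * u * m⁻¹) := by group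
        _ = m * u * m⁻¹ * (m * y * m⁻¹) := h2
        _ = _ := by group
    exact mul_left_cancel (mul_right_cancel h3)
  obtain ⟨h2, -, -⟩ := hc
  have hxC : x ∈ centralizer ({x} : Set MG) := mem_centralizer_singleton_iff.2 rfl
  have huC : u ∈ centralizer ({x} : Set MG) := mem_centralizer_singleton_iff.2 hux
  have hcen : zpowers (⟨x, hxC⟩ : centralizer ({x} : Set MG)) = center ↥(centralizer ({x} : Set MG)) := by
    refine Subgroup.eq_of_le_of_card_ge (Subgroup.zpowers_le.2 ?_) ?_
    · rw [Subgroup.mem_center_iff]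
      intro y
      exact Subtype.ext (mem_centralizer_singleton_iff.1 y.2)
    · rw [h2, Nat.card_zpowers, Subgroup.orderOf_mk, hx]
  have h3 : (⟨u, huC⟩ : centralizer ({x} : Set MG)) ∈ center ↥(centralizer ({x} : Set MG)) := by
    rw [Subgroup.mem_center_iff]
    intro y
    exact Subtype.ext (hcu y (mem_centralizer_singleton_iff.1 y.2))
  rw [← hcen, ← mem_powers_iff_mem_zpowers, mem_powers_iff_mem_range_orderOf, Subgroup.orderOf_mk, hx] at h3
  obtain ⟨k, hk, hk'⟩ := Finset.mem_image.1 h3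
  have h4 := Finset.mem_range.1 hk
  interval_cases k
  · have h5 : (1 : MG) = u := congrArg Subtype.val hk'
    have h6 : orderOf u = 2 := H377.SporB.orderOf_t hTu
    rw [← h5, orderOf_one] at h6
    exact absurd h6 (by norm_num)
  · have h5 : x ^ 1 = u := congrArg Subtype.val hk'
    rw [pow_one] at h5
    exact hne h5.symm

/-- **the Monster** -/
theorem kill_MG (B : Base) : Kill MG := by
  intro A Γ h
  have hfin := BpSpor.MBigModel.finite
  have hsim := BpSpor.MBigModel.simple
  obtain ⟨σ, hσ, h2, -⟩ := h.ex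
  obtain ⟨a, rfl⟩ : ∃ a : MG, MulAut.conj a = σ := by
    obtain ⟨g, hg⟩ := KFacts.MonsterE.inner_model MonsterX.Instance.mGroup MonsterX.Instance.mRep MonsterX.Instance.mLat
      MonsterX.InstanceFinal.mOrbit MonsterX.Instance.mTrans σ
    exact ⟨g, hg.symm⟩
  rw [H999.IFB.orderOf_conj hna] at h2
  have haA : a ∈ A := (h.conj a).1 hσ
  rcases BpSpor.MBigModel.cls h2 with ⟨g, hg⟩ | hT
  · have hA1 := h.map (MulAut.conj g⁻¹)
    set A₁ := A.map (MulAut.conj g⁻¹).toMonoidHom with hA₁
    have hzA : zz ∈ A₁ := by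
      rw [hA₁, mem_conj, inv_inv, hg]
      exact haA
    have h3 := (H999.IFB.IF.E2' hA1 hna hzA BpSpor.MBigModel.orderOf_zz).2.2.2.2 (centralizer ({zz} : Set MG)) le_rfl
    rw [index_z] at h3
    have h4 : A₁.relIndex (centralizer ({zz} : Set MG)) ≤ 356912 := by
      by_contra hcon
      push Not at hcon
      have h5 : 356913 ^ 5 ≤ A₁.relIndex (centralizer ({zz} : Set MG)) ^ 5 := Nat.pow_le_pow_left hcon 5
      have h6 := lt_of_le_of_lt h5 h3.1
      norm_num at h6
    obtain ⟨_, hqA, ⟨p, rfl⟩, hq⟩ := exists_q B H642.IF.LamTwo.exists_two chart BpSpor.MBigModel.card_cent_z h4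
    refine kill_ta B hA1 hqA (BpSpor.MBigModel.ta_iota ?_)
    rw [← KChart.eta_ι KDone.lft p]
    exact hq
  · exact kill_ta B h haA hT

/-- **the row of the Monster** -/
theorem row_m (B : Base) : Row fun T => Spor.IsoM T := by
  rintro T _ _ _ - ⟨e⟩ A Γ hA
  obtain ⟨f⟩ := MonsterP.Equiv.equiv
  exact Kill.congr (e.trans f).symm (kill_MG B) A Γ hA

end Cfsg.Agent.H861.IFM
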