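import Cfsg.Agent.H147.Fpr.CoOne
import Cfsg.Agent.H256.Sep.RowB
import Cfsg.Agent.MonsterU.Chart

/-!
# S5719, the Monster: subgroups of small index of `B`, `Co1`, `2.B` and `2^(1+24).Co1` (helper861)

* `b_index` : a proper subgroup of `B` has index at least 9945; `co_index` : a proper subgroup of `Co1` has index at least 88;
* `cover_top` : a subgroup of the double cover of `B` which contains the centre and has index at most 9944 is the group;
* `exists_q` : a subgroup of `C(z) = 2^(1+24).Co1` of index at most 356912 contains an element of type 2 of `Q`.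
-/

set_option autoImplicit false
set_option maxRecDepth 100000

namespace Cfsg.Agent.H861.IFM

open Subgroup Cfsg
open Cfsg.Agent.H940.Eng (Base)

section b

open Cfsg.Agent.H256.Sep.RowB Cfsg.Agent.H940.Eng.D

/-- the tests of the divisors `lo + 1 ≤ d ≤ lo + n` -/
def chk (lo n : ℕ) : Bool :=
  Nat.rec (motive := fun _ => Bool) true (fun d ih =>
    (Nat.blt 0 (n_b % (lo + d + 1)) || bw (n_b / (lo + d + 1))) && ih) n

theorem chk_spec {lo n d : ℕ} (h : chk lo n = true) (h1 : lo < d) (h2 : d ≤ lo + n) (hd : d ∣ n_b) :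
    bw (n_b / d) = true := by
  induction n with
  | zero => omega
  | succ n ih =>
    have h3 : ((Nat.blt 0 (n_b % (lo + n + 1)) || bw (n_b / (lo + n + 1))) && chk lo n) = true := h
    rw [Bool.and_eq_true, Bool.or_eq_true] at h3
    rcases Nat.lt_or_ge d (lo + n + 1) with h4 | h4
    · exact ih h3.2 (by omega)
    · have h5 : d = lo + n + 1 := by omega
      rw [← h5] at h3
      rcases h3.1 with h6 | h6
      · exfalso
        rw [Nat.mod_eq_zero_of_dvd hd] at h6
        exact absurd h6 (by decide)
      · exact h6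

theorem c0 : chk 1 1499 = true := by decide +kernel
theorem c1 : chk 1500 1500 = true := by decide +kernel
theorem c2 : chk 3000 1500 = true := by decide +kernel
theorem c3 : chk 4500 1500 = true := by decide +kernel
theorem c4 : chk 6000 1500 = true := by decide +kernel
theorem c5 : chk 7500 1500 = true := by decide +kernel
theorem c6 : chk 9000 944 = true := by decide +kernel

/-- a proper subgroup of `B` has index at least 9945 -/
theorem b_index (B : Base) {X : Subgroup Spor.BabyMonster} (hX : X.index ≤ 9944) : X = ⊤ := by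
  have hf := fin
  by_contra hne
  have hmul := card_mul_index X
  have hc : Nat.card Spor.BabyMonster = n_b := card
  rw [hc] at hmul
  have hpos : 0 < X.index := Nat.pos_of_ne_zero Subgroup.index_ne_zero_of_finite
  have h1 : 2 ≤ X.index := by
    by_contra h
    push Not at h
    exact hne (Subgroup.index_eq_one.1 (by omega))
  have hdiv : n_b / X.index = Nat.card X := Nat.div_eq_of_eq_mul_left hpos hmul.symm
  have hdvd : X.index ∣ n_b := ⟨Nat.card X, by rw [mul_comm]; exact hmul.symm⟩
  have h2 := bw_false B X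
  rw [← hdiv] at h2
  have h3 : bw (n_b / X.index) = true := by
    rcases Nat.lt_or_ge 1500 X.index with h | h
    · rcases Nat.lt_or_ge 3000 X.index with h | h
      · rcases Nat.lt_or_ge 4500 X.index with h | h
        · rcases Nat.lt_or_ge 6000 X.index with h | h
          · rcases Nat.lt_or_ge 7500 X.index with h | h
            · rcases Nat.lt_or_ge 9000 X.index with h | h
              · exact chk_spec c6 h (by omega) hdvd
              · exact chk_spec c5 (by omega) (by omega) hdvd
            · exact chk_spec c4 (by omega) (by omega) hdvd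
          · exact chk_spec c3 (by omega) (by omega) hdvd
        · exact chk_spec c2 (by omega) (by omega) hdvd
      · exact chk_spec c1 (by omega) (by omega) hdvd
    · exact chk_spec c0 (by omega) (by omega) hdvd
  rw [h3] at h2
  exact absurd h2 (by decide)

/-- small index in the double cover of `B` -/
theorem cover_top (B : Base) {D : Type*} [Group D] [Finite D]
    (e : D ⧸ center D ≃* Spor.BabyMonster) {X : Subgroup D} (hX : X.index ≤ 9944) (hc : center D ≤ X) : X = ⊤ := by
  have hs : Function.Surjective (e.toMonoidHom.comp (QuotientGroup.mk' (center D))) :=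
    e.surjective.comp (QuotientGroup.mk'_surjective _)
  have hk : (e.toMonoidHom.comp (QuotientGroup.mk' (center D))).ker ≤ X := by
    intro x hx
    apply hc
    have h3 : e (QuotientGroup.mk' (center D) x) = 1 := hx
    rw [EmbeddingLike.map_eq_one_iff] at h3
    exact (QuotientGroup.eq_one_iff _).1 h3
  have h3 := Subgroup.index_map_eq X hs hk
  have h4 := b_index B (X := X.map _) (by rw [h3]; exact hX)
  rw [h4, Subgroup.index_top] at h3
  exact Subgroup.index_eq_one.1 h3.symm

end b

section co

open Cfsg.Agent.H940.Eng.D Cfsg.Agent.H940.Eng Cfsg.Agent.H147.Fpr.CoOne Cfsg.Agent.H444.Fpr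
open Cfsg.Spor (Co1)

theorem co_chk (c : ℕ) (hc : c = 12 ∨ c = 24) : ∀ d < 88, 2 ≤ d → n_co1 % d = 0 →
    bad l_co1 n_co1 [] 60 (loc c) o_co1 (n_co1 / d) = true := by
  rcases hc with rfl | rfl <;> decide +kernel

/-- a proper subgroup of `Co1` has index at least 88 -/
theorem co_index (B : Base) {X : Subgroup Co1} (hlt : X.index < 88) : X = ⊤ := by
  by_contra hX
  have hf := fin
  have hs := simple
  have hmul := card_mul_index X
  have hc := card
  rw [hc] at hmul
  have hpos : 0 < X.index := Nat.pos_of_ne_zero Subgroup.index_ne_zero_of_finite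
  have h1 : 2 ≤ X.index := by
    by_contra h
    push Not at h
    exact hX (Subgroup.index_eq_one.1 (by omega))
  have hdiv : n_co1 / X.index = Nat.card X := Nat.div_eq_of_eq_mul_left hpos hmul.symm
  have hmod : n_co1 % X.index = 0 := Nat.mod_eq_zero_of_dvd ⟨Nat.card X, by rw [mul_comm]; exact hmul.symm⟩
  have key : ∀ c, (c = 12 ∨ c = 24) → ∀ ⦃e⦄, Known Co1 13 c e → c * e = 144 → False := by
    intro c hcc e hk hce
    have h2 := co_chk c hcc _ hlt h1 hmod
    rw [hdiv] at h2
    have C := ctx B hk hce
    have h3 := not_bad C.val C.card C.ords C.loc (full := []) (bd := 60) (H := X) (by simp) hX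
    rw [h3] at h2
    exact absurd h2 (by decide)
  rcases known13 with h | h
  · exact key 12 (Or.inl rfl) h (by norm_num)
  · exact key 24 (Or.inr rfl) h (by norm_num)

end co

section chart

open Cfsg.Agent.MonsterU Cfsg.Agent.MonsterU.Ch Cfsg.Agent.MonsterU.Lam2
open Cfsg.Spor (Co1)

variable {G : Type*} [Group G] {Q : Subgroup G} {z : G} {eta : G → L2}
  {pi : Subgroup.centralizer ({z} : Set G) →* Co1}

/-- the image of `A ∩ Q` -/
def img (h : Chart Q z eta pi) (A : Subgroup G) : AddSubgroup L2 where
  carrier := {v | ∃ x ∈ A, x ∈ Q ∧ eta x = v}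
  zero_mem' := ⟨1, A.one_mem, Q.one_mem, h.eta_one⟩
  add_mem' := by
    rintro _ _ ⟨x, hx, hxQ, rfl⟩ ⟨y, hy, hyQ, rfl⟩
    exact ⟨x * y, A.mul_mem hx hy, Q.mul_mem hxQ hyQ, h.eta_mul x hxQ y hyQ⟩
  neg_mem' := by
    rintro _ ⟨x, hx, hxQ, rfl⟩
    exact ⟨x, hx, hxQ, (neg_eq _).symm⟩

theorem card_le (h : Chart Q z eta pi) [Finite G] (A : Subgroup G) :
    Nat.card (A.subgroupOf (centralizer ({z} : Set G))) ≤
      Nat.card ((A.subgroupOf (centralizer ({z} : Set G))).map pi) * (2 * Nat.card (img h A)) := by
  classical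
  have hfL : Finite L2 := Nat.finite_of_card_ne_zero (by rw [card_L2]; norm_num)
  set A' := A.subgroupOf (centralizer ({z} : Set G)) with hA'
  have h1 : Nat.card A' = Nat.card (A'.map pi) * Nat.card ↥(A' ⊓ pi.ker) := by
    have h2 := Subgroup.card_mul_index ((pi.domRestrict A').ker)
    rw [Subgroup.index_ker, MonoidHom.domRestrict_range] at h2
    rw [← h2, mul_comm]
    congr 1
    refine Nat.card_congr ⟨fun x => ⟨x.1.1, x.1.2, x.2⟩, fun x => ⟨⟨x.1, x.2.1⟩, x.2.2⟩, fun x => rfl, fun x => rfl⟩
  rw [h1]
  refine Nat.mul_le_mul_left _ ?_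
  -- the fibres of `eta` have at most two elements
  have h2 : ∀ v : img h A, ∃ y : G, y ∈ A ∧ y ∈ Q ∧ eta y = v := fun v => v.2
  choose s hs using h2
  have hmem : ∀ x : ↥(A' ⊓ pi.ker), ((x : centralizer ({z} : Set G)) : G) ∈ A ∧ ((x : centralizer ({z} : Set G)) : G) ∈ Q :=
    fun x => ⟨x.2.1, (h.pi_eq_one _).1 x.2.2⟩
  rw [← Nat.card_eq_fintype_card (α := Bool) |>.trans Fintype.card_bool, ← Nat.card_prod]
  refine Nat.card_le_card_of_injective (fun x : ↥(A' ⊓ pi.ker) =>
    (decide (((x : centralizer ({z} : Set G)) : G) = s ⟨eta ((x : centralizer ({z} : Set G)) : G), _, (hmem x).1, (hmem x).2, rfl⟩),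
      (⟨eta ((x : centralizer ({z} : Set G)) : G), _, (hmem x).1, (hmem x).2, rfl⟩ : img h A))) ?_
  intro x y hxy
  rw [Prod.mk.injEq] at hxy
  obtain ⟨e1, e2⟩ := hxy
  rw [← e2, decide_eq_decide] at e1
  set σ := s ⟨eta ((x : centralizer ({z} : Set G)) : G), _, (hmem x).1, (hmem x).2, rfl⟩ with hσ
  have e3 : eta ((x : centralizer ({z} : Set G)) : G) = eta ((y : centralizer ({z} : Set G)) : G) := congrArg Subtype.val e2
  have hs1 := hs ⟨eta ((x : centralizer ({z} : Set G)) : G), _, (hmem x).1, (hmem x).2, rfl⟩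
  rw [← hσ] at hs1
  have e4 := (h.eta_eq (hmem x).2 hs1.2.1).1 hs1.2.2.symm
  have e5 := (h.eta_eq (hmem y).2 hs1.2.1).1 (by rw [hs1.2.2, ← e3])
  apply Subtype.ext
  apply Subtype.ext
  rcases e4 with e4 | e4
  · rw [e4, e1.1 e4]
  · rcases e5 with e5 | e5
    · rw [e5, e1.2 e5]
    · rw [e4, e5]

/-- **small index in `C(z)`** -/
theorem exists_q (B : Base) (two : ∀ V : AddSubgroup L2, V.index ≤ 2 ^ 11 → ∃ v ∈ V, IsType 2 v) (h : Chart Q z eta pi)
    [Finite G] (hC : Nat.card (centralizer ({z} : Set G)) = 2 ^ 25 * 4157776806543360000) {A : Subgroup G}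
    (hA : A.relIndex (centralizer ({z} : Set G)) ≤ 356912) : ∃ x ∈ A, x ∈ Q ∧ IsType 2 (eta x) := by
  have hfL : Finite L2 := Nat.finite_of_card_ne_zero (by rw [card_L2]; norm_num)
  have hfc : Finite Co1 := H147.Fpr.CoOne.fin
  have h1 := card_le h A
  set A' := A.subgroupOf (centralizer ({z} : Set G)) with hA'
  set X := A'.map pi with hX
  set V := img h A with hV
  have h2 : A'.index ≤ 356912 := hA
  have h3 := card_mul_index A'
  have h4 := card_mul_index X
  rw [BpSpor.MBigCo.card_co1] at h4
  have h5 := AddSubgroup.card_mul_index V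
  rw [card_L2] at h5
  have hpos : 0 < Nat.card A' := Nat.card_pos
  have h6 : X.index * V.index ≤ A'.index := by
    refine Nat.le_of_mul_le_mul_left (c := Nat.card A') ?_ hpos
    calc Nat.card A' * (X.index * V.index) ≤ Nat.card X * (2 * Nat.card V) * (X.index * V.index) :=
          Nat.mul_le_mul_right _ h1
      _ = 2 * (Nat.card X * X.index) * (Nat.card V * V.index) := by ring
      _ = 2 ^ 25 * 4157776806543360000 := by rw [h4, h5]; norm_num
      _ = Nat.card A' * A'.index := by rw [h3, hC]
  have key : ∃ v ∈ V, IsType 2 v := by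
    by_cases hV11 : V.index ≤ 2 ^ 11
    · exact two V hV11
    · exfalso
      push Not at hV11
      obtain ⟨j, hj1, hj2⟩ := (Nat.dvd_prime_pow Nat.prime_two).1 (show V.index ∣ 2 ^ 24 from ⟨Nat.card V, by
        rw [mul_comm]; exact h5.symm⟩)
      have hj : 11 < j := by
        rw [hj2] at hV11
        exact (Nat.pow_lt_pow_iff_right (by norm_num)).1 hV11
      have h7 : 2 ^ 12 ≤ V.index := by
        rw [hj2]
        exact Nat.pow_le_pow_right (by norm_num) hj
      have h8 : X.index < 88 := by
        by_contra hcon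
        push Not at hcon
        have := Nat.mul_le_mul hcon h7
        omega
      have h9 := co_index B h8
      have h10 : ∀ g : Co0, ∀ x ∈ V, g • x ∈ V := by
        rintro g _ ⟨x, hxA, hxQ, rfl⟩
        have h11 : (QuotientGroup.mk g : Co1) ∈ X := by rw [h9]; trivial
        obtain ⟨c, hc, hce⟩ := h11
        have h12 := h.eta_conj c x hxQ
        rw [hce] at h12
        refine ⟨(c : G) * x * (c : G)⁻¹, A.mul_mem (A.mul_mem hc hxA) (A.inv_mem hc), ?_, h12⟩
        exact h.large.conj_mem c (mem_centralizer_singleton_iff.1 c.2) x hxQ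
      rcases irreducible V h10 with h11 | h11
      · rw [h11, AddSubgroup.index_bot, card_L2] at h6
        have : 0 < X.index := Nat.pos_of_ne_zero Subgroup.index_ne_zero_of_finite
        have h12 : 1 * 2 ^ 24 ≤ X.index * 2 ^ 24 := Nat.mul_le_mul_right _ this
        omega
      · rw [h11, AddSubgroup.index_top] at h7
        norm_num at h7
  obtain ⟨v, ⟨x, hxA, hxQ, rfl⟩, hv⟩ := key
  exact ⟨x, hxA, hxQ, hv⟩

end chart

end Cfsg.Agent.H861.IFM
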